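import Groth.Prelude
import Groth.Agent.S14584
import Mathlib.AlgebraicGeometry.AffineSpace

/-!
# Morphisms from affine space to an abelian variety are constant
-/

set_option autoImplicit false
set_option backward.isDefEq.respectTransparency false
set_option linter.style.haveILetI false

universe u

open CategoryTheory CategoryTheory.Limits MonoidalCategory CartesianMonoidalCategory MonObj GrpObj AlgebraicGeometry

noncomputable section

namespace A1AVLib

attribute [-instance] CategoryTheory.Hom.commGroup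

variable {k : Type u} [Field k] {n : Type u}

variable (k n) in
/-- Affine space over `k`. -/
abbrev aff : Over (Spec (CommRingCat.of k)) :=
  Over.mk (𝔸(n; Spec (CommRingCat.of k)) ↘ Spec (CommRingCat.of k))

/-- The point of affine space with given coordinates. -/
def mkT {T : Over (Spec (CommRingCat.of k))} (v : n → Γ(T.left, ⊤)) : T ⟶ aff k n :=
  Over.homMk (AffineSpace.homOfVector T.hom v) (AffineSpace.homOfVector_over _ _)

/-- The coordinates of a point of affine space. -/
def val {T : Over (Spec (CommRingCat.of k))} (a : T ⟶ aff k n) : n → Γ(T.left, ⊤) :=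
  fun i => a.left.appTop (AffineSpace.coord _ i)

theorem val_mkT {T : Over (Spec (CommRingCat.of k))} (v : n → Γ(T.left, ⊤)) : val (mkT (k := k) v) = v := by
  funext i
  exact AffineSpace.homOfVector_appTop_coord _ _ i

theorem val_comp {T T' : Over (Spec (CommRingCat.of k))} (g : T' ⟶ T) (a : T ⟶ aff k n) :
    val (g ≫ a) = fun i => g.left.appTop (val a i) := by
  funext i
  simp only [val, Over.comp_left, Scheme.Hom.comp_appTop]
  rfl

theorem val_inj {T : Over (Spec (CommRingCat.of k))} {a b : T ⟶ aff k n} (h : val a = val b) : a = b := by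
  refine Over.OverMorphism.ext ?_
  refine AffineSpace.hom_ext ?_ fun i => congrFun h i
  exact (Over.w a).trans (Over.w b).symm

/-- Coordinatewise multiplication. -/
def mulT : aff k n ⊗ aff k n ⟶ aff k n :=
  mkT fun i => val (fst _ _) i * val (snd _ _) i

theorem comp_mulT {T : Over (Spec (CommRingCat.of k))} (a b : T ⟶ aff k n) :
    lift a b ≫ mulT = mkT fun i => val a i * val b i := by
  refine val_inj ?_
  rw [val_comp, mulT, val_mkT, val_mkT]
  funext i
  rw [map_mul, ← congrFun (val_comp (lift a b) (fst _ _)) i, ← congrFun (val_comp (lift a b) (snd _ _)) i,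
    lift_fst, lift_snd]

/-- Morphisms from affine space to an abelian variety are constant. -/
theorem eq_const [Finite n] {A : Over (Spec (CommRingCat.of k))} [GrpObj A] [IsProper A.hom] [Smooth A.hom]
    [ConnectedSpace ↥A.left] (f : aff k n ⟶ A) : f = toUnit _ ≫ mkT (fun _ => 0) ≫ f := by
  haveI : GeometricallyIntegral (aff k n).hom :=
    inferInstanceAs (GeometricallyIntegral (𝔸(n; Spec (CommRingCat.of k)) ↘ Spec (CommRingCat.of k)))
  haveI : LocallyOfFiniteType (aff k n).hom :=
    inferInstanceAs (LocallyOfFiniteType (𝔸(n; Spec (CommRingCat.of k)) ↘ Spec (CommRingCat.of k)))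
  haveI : QuasiCompact (aff k n).hom :=
    inferInstanceAs (QuasiCompact (𝔸(n; Spec (CommRingCat.of k)) ↘ Spec (CommRingCat.of k)))
  haveI : IsSeparated (aff k n).hom :=
    inferInstanceAs (IsSeparated (𝔸(n; Spec (CommRingCat.of k)) ↘ Spec (CommRingCat.of k)))
  let z₀ : 𝟙_ (Over (Spec (CommRingCat.of k))) ⟶ (aff k n) := mkT (fun _ => 0)
  let z₁ : 𝟙_ (Over (Spec (CommRingCat.of k))) ⟶ (aff k n) := mkT (fun _ => 1)
  have hval : ∀ (T : Over (Spec (CommRingCat.of k))), val (toUnit T ≫ z₀) = fun _ => 0 := fun T => by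
    rw [val_comp, val_mkT]; funext i; exact map_zero _
  have hl : lift (toUnit (aff k n) ≫ z₀) (𝟙 (aff k n)) ≫ mulT = toUnit (aff k n) ≫ z₀ := by
    refine val_inj ?_
    rw [comp_mulT, val_mkT, hval]
    funext i; exact zero_mul _
  have hr : lift (𝟙 (aff k n)) (toUnit (aff k n) ≫ z₀) ≫ mulT = toUnit (aff k n) ≫ z₀ := by
    refine val_inj ?_
    rw [comp_mulT, val_mkT, hval]
    funext i; exact mul_zero _
  have h00 : lift z₀ z₀ ≫ mulT = z₀ := by
    refine val_inj ?_
    rw [comp_mulT, val_mkT, val_mkT]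
    funext i; exact zero_mul _
  have h := Groth.Agent.S14584.result k (aff k n) (aff k n) A z₀ z₀ (mulT ≫ f)
  rw [← Category.assoc (lift z₀ z₀), h00, ← Category.assoc (lift (toUnit (aff k n) ≫ z₀) (𝟙 (aff k n))), hl,
    ← Category.assoc (lift (𝟙 (aff k n)) (toUnit (aff k n) ≫ z₀)), hr] at h
  simp only [← Category.assoc] at h
  rw [toUnit_unique (snd (aff k n) (aff k n) ≫ toUnit (aff k n)) (toUnit ((aff k n) ⊗ (aff k n))),
    toUnit_unique (fst (aff k n) (aff k n) ≫ toUnit (aff k n)) (toUnit ((aff k n) ⊗ (aff k n))), inv_mul_cancel, _root_.one_mul] at h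
  have h1 : lift (𝟙 (aff k n)) (toUnit (aff k n) ≫ z₁) ≫ mulT = 𝟙 (aff k n) := by
    refine val_inj ?_
    rw [comp_mulT, val_mkT]
    funext i
    rw [val_comp, val_mkT]
    exact (congrArg (_ * ·) (map_one _)).trans (mul_one _)
  have h2 := congrArg (lift (𝟙 (aff k n)) (toUnit (aff k n) ≫ z₁) ≫ ·) h
  simp only [← Category.assoc] at h2
  rw [h1, Category.id_comp, toUnit_unique (lift (𝟙 (aff k n)) (toUnit (aff k n) ≫ z₁) ≫ toUnit ((aff k n) ⊗ (aff k n))) (toUnit (aff k n))] at h2
  exact h2.trans (Category.assoc _ _ _)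

/-- A morphism to an abelian variety from a reduced scheme dominated by affine space is constant. -/
theorem eq_const_of_dominant [Finite n] {X A : Over (Spec (CommRingCat.of k))} [IsReduced X.left] [GrpObj A]
    [IsProper A.hom] [Smooth A.hom] [ConnectedSpace ↥A.left] (c : aff k n ⟶ X) [IsDominant c.left]
    (f : X ⟶ A) : f = toUnit X ≫ mkT (fun _ => 0) ≫ c ≫ f := by
  refine Over.OverMorphism.ext (ext_of_isDominant_of_isSeparated A.hom ?_ c.left ?_)
  · rw [Over.w, Over.w]
  · have h : c ≫ f = c ≫ toUnit X ≫ mkT (fun _ => 0) ≫ c ≫ f := by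
      rw [← Category.assoc c (toUnit X), toUnit_unique (c ≫ toUnit X) (toUnit _)]
      exact eq_const (c ≫ f)
    exact congrArg CommaMorphism.left h

end A1AVLib

end
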