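import Groth.Agent.A1AVLib.Main
import Groth.Agent.SemiAbLib.Lines
import Groth.Agent.AntiAffLib.Descend
import Groth.Agent.GrpFieldLib.Identity
import Groth.Agent.GrpHomLib.Artin

/-!
# Morphisms from affine space to groups with semi-abelian identity component are constant
-/

set_option autoImplicit false
set_option backward.isDefEq.respectTransparency false
set_option linter.style.haveILetI false

universe u

open CategoryTheory CategoryTheory.Limits MonoidalCategory CartesianMonoidalCategory MonObj GrpObj AlgebraicGeometry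
open CoactBr (sp)

noncomputable section

namespace A1AVLib

attribute [-instance] CategoryTheory.Hom.commGroup

variable {k : Type u} [Field k] {n : Type u} [Finite n]

/-- A connected group scheme of finite type over a field is quasi-compact. -/
theorem quasiCompact_of_connected (G : Over (Spec (CommRingCat.of k))) [GrpObj G] [LocallyOfFiniteType G.hom]
    [ConnectedSpace G.left] : QuasiCompact G.hom := by
  obtain ⟨N, _, i, -, -, -, hr, -, hc⟩ := Groth.Agent.GrpField.exists_identity_component (G := G)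
  haveI := hc
  have hu : Set.range i.left = Set.univ := by
    rw [hr, ← Groth.Agent.GrpField.connectedComponent_unit, PreconnectedSpace.connectedComponent_eq_univ]
  haveI : CompactSpace G.left := ⟨by rw [← hu]; exact isCompact_range i.left.continuous⟩
  exact quasiCompact_of_compactSpace _

/-- Morphisms from affine space to an extension of an abelian variety by a torus are constant. -/
theorem semi_const [IsAlgClosed k] {G T A : Over (Spec (CommRingCat.of k))} [GrpObj G] [GrpObj T] [GrpObj A]
    (i : T ⟶ G) [IsMonHom i] (hT : Red.IsTorus T) (q : G ⟶ A) [IsMonHom q] (hker : AlgGrp.IsKernel i q)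
    [IsProper A.hom] [Smooth A.hom] [ConnectedSpace ↥A.left] (f : aff k n ⟶ G) (z : 𝟙_ _ ⟶ aff k n) :
    f = toUnit _ ≫ z ≫ f := by
  let f' : aff k n ⟶ G := f * (toUnit _ ≫ z ≫ f)⁻¹
  have h0 : z ≫ f' = 1 := by
    show z ≫ (f * (toUnit _ ≫ z ≫ f)⁻¹) = 1
    rw [MonObj.comp_mul, GrpObj.comp_inv, ← Category.assoc z (toUnit _), toUnit_unique (z ≫ toUnit _) (𝟙 _),
      Category.id_comp, mul_inv_cancel]
  have hq : f' ≫ q = 1 := by
    have hc := eq_const (f' ≫ q)
    have hzq : z ≫ f' ≫ q = 1 := by rw [← Category.assoc, h0, MonObj.one_comp]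
    have hv : (mkT (fun _ => 0) : 𝟙_ (Over (Spec (CommRingCat.of k))) ⟶ aff k n) ≫ f' ≫ q = 1 := by
      have := congrArg (z ≫ ·) hc
      rwa [hzq, ← Category.assoc z (toUnit _), toUnit_unique (z ≫ toUnit _) (𝟙 _), Category.id_comp, eq_comm] at this
    rw [hc, hv, MonObj.comp_one]
  obtain ⟨l, hl⟩ := AntiAffLib.exists_lift_kernel hker f' hq
  let C : Type u := MvPolynomial n k
  let e : sp k C ⟶ aff k n := Over.homMk (AffineSpace.SpecIso n (CommRingCat.of k)).inv
    (AffineSpace.SpecIso_inv_over (CommRingCat.of k))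
  haveI : IsIso e.left := inferInstanceAs (IsIso (AffineSpace.SpecIso n (CommRingCat.of k)).inv)
  haveI : IsIso ((Over.forget _).map e) := ‹IsIso e.left›
  haveI : IsIso e := isIso_of_reflects_iso e (Over.forget _)
  obtain ⟨g, hg⟩ := SemiAbLib.torus_const hT (C := C) (fun u hu => by
    obtain ⟨-, h1⟩ := MvPolynomial.isUnit_iff.1 hu
    refine ⟨u.coeff 0, MvPolynomial.ext _ _ fun m => ?_⟩
    classical
    rw [MvPolynomial.algebraMap_eq, MvPolynomial.coeff_C]
    split_ifs with h
    · rw [← h]
    · exact ((h1 m (Ne.symm h)).eq_zero).symm) (MvPolynomial.aeval fun _ => 0) (e ≫ l)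
  have h1 : f' = toUnit _ ≫ g ≫ i := by
    rw [← hl, ← cancel_epi e, ← Category.assoc, hg, Category.assoc, ← Category.assoc e (toUnit (aff k n)),
      toUnit_unique (e ≫ toUnit (aff k n)) (toUnit _)]
  have h2 : g ≫ i = 1 := by
    rw [← h0, h1, ← Category.assoc z (toUnit _), toUnit_unique (z ≫ toUnit _) (𝟙 _), Category.id_comp]
  exact mul_inv_eq_one.1 (h1.trans (by rw [h2, MonObj.comp_one]))

/-- The same when an open subgroup is such an extension. -/
theorem large_const [IsAlgClosed k] {G G₀ T A : Over (Spec (CommRingCat.of k))} [GrpObj G] [GrpObj G₀] [GrpObj T]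
    [GrpObj A] [LocallyOfFiniteType G.hom] [QuasiCompact G₀.hom] (e : G₀ ⟶ G) [IsMonHom e] [IsOpenImmersion e.left]
    (i : T ⟶ G₀) [IsMonHom i] (hT : Red.IsTorus T) (q : G₀ ⟶ A) [IsMonHom q] (hker : AlgGrp.IsKernel i q)
    [IsProper A.hom] [Smooth A.hom] [ConnectedSpace ↥A.left] (f : aff k n ⟶ G) (z : 𝟙_ _ ⟶ aff k n) :
    f = toUnit _ ≫ z ≫ f := by
  haveI : IsSeparated G.hom := Groth.Agent.GrpField.isSeparated_grp (G := G)
  haveI : LocallyOfFiniteType G₀.hom := by rw [← Over.w e]; infer_instance
  haveI : QuasiCompact e.left := by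
    haveI : QuasiCompact (e.left ≫ G.hom) := by rw [Over.w e]; infer_instance
    exact QuasiCompact.of_comp e.left G.hom
  haveI : IsClosedImmersion e.left := Groth.Agent.GrpHom.isClosedImmersion_of_mono_artinian e
  let f' : aff k n ⟶ G := f * (toUnit _ ≫ z ≫ f)⁻¹
  have h0 : z ≫ f' = 1 := by
    show z ≫ (f * (toUnit _ ≫ z ≫ f)⁻¹) = 1
    rw [MonObj.comp_mul, GrpObj.comp_inv, ← Category.assoc z (toUnit _), toUnit_unique (z ≫ toUnit _) (𝟙 _),
      Category.id_comp, mul_inv_cancel]
  have h1 : (1 : 𝟙_ (Over (Spec (CommRingCat.of k))) ⟶ G) = η[G] := by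
    rw [Hom.one_def, toUnit_unique (toUnit (𝟙_ (Over (Spec (CommRingCat.of k))))) (𝟙 _), Category.id_comp]
  haveI : IrreducibleSpace (aff k n).left := inferInstanceAs (IrreducibleSpace ↥𝔸(n; Spec (CommRingCat.of k)))
  have hr : Set.range f'.left ⊆ Set.range e.left := by
    refine ((isPreconnected_range f'.left.continuous).subset_connectedComponent
      ⟨z.left (IsLocalRing.closedPoint k), ?_⟩).trans (IsClopen.connectedComponent_subset
        ⟨e.left.isClosedEmbedding.isClosed_range, e.left.isOpenEmbedding.isOpen_range⟩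
        (x := Groth.Agent.GrpField.unitPt G) ⟨Groth.Agent.GrpField.unitPt G₀,
          congr($(IsMonHom.one_hom e).left (IsLocalRing.closedPoint k))⟩)
    rw [h1] at h0
    exact congr($(congrArg CommaMorphism.left h0) (IsLocalRing.closedPoint k))
  let f₀ : aff k n ⟶ G₀ := Over.homMk (IsOpenImmersion.lift e.left f'.left hr) (by
    rw [← Over.w e, ← Category.assoc, IsOpenImmersion.lift_fac, Over.w f'])
  have hf₀ : f₀ ≫ e = f' := Over.OverMorphism.ext (IsOpenImmersion.lift_fac _ _ _)
  have hc := semi_const i hT q hker f₀ z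
  have h2 : f' = 1 := by
    rw [← hf₀, hc, Category.assoc, Category.assoc, hf₀, h0, MonObj.comp_one]
  exact mul_inv_eq_one.1 h2

end A1AVLib

end
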